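import Cfsg.Agent.Classical.SpinOvergroup.Main
import Cfsg.Agent.Classical.Misc.InvolutionSimilitude

/-! Change of symplectic basis in each factor. -/

set_option autoImplicit false
set_option linter.unusedSimpArgs false
set_option linter.unusedSectionVars false
set_option linter.style.haveILetI false

namespace Cfsg.Lib.Classical.SpinOver

open Matrix Cfsg.Geo
open Cfsg.Lib.Classical.Aschbacher
open scoped MatrixGroups

universe u

variable {F : Type u} [Field F] {k : ℕ}

theorem form_eq_gram {f : (Fin k → F) → (Fin k → F) → F} (hf : IsBilinearForm f) (u v : Fin k → F) :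
    f u v = u ⬝ᵥ (gramMatrix f *ᵥ v) := by
  let B : LinearMap.BilinForm F (Fin k → F) :=
    LinearMap.mk₂ F f hf.add_left hf.smul_left hf.add_right hf.smul_right
  have h : gramMatrix f = LinearMap.toMatrix₂' F B := Matrix.ext fun i j => rfl
  rw [h, ← Matrix.toLinearMap₂'_apply' (LinearMap.toMatrix₂' F B) u v, Matrix.toLinearMap₂'_toMatrix']
  rfl

/-- A symplectic space of dimension at most four has a basis with the standard Gram matrix. -/
theorem exists_factor_data (h2 : (2 : F) = 0) (hk0 : k ≠ 0) (hk : k ≤ 4) {f : (Fin k → F) → (Fin k → F) → F}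
    (hf : IsSymplecticForm f) :
    (k = 2 ∨ k = 4) ∧ ∃ (G : Matrix (Fin k) (Fin k) F) (M : GL (Fin k) F),
      G.det ≠ 0 ∧ Nonempty (FactorData k G) ∧
      (M : Matrix (Fin k) (Fin k) F)ᵀ * gramMatrix f * (M : Matrix (Fin k) (Fin k) F) = G := by
  classical
  have hA : (InvolSim.bil f hf).IsAlt := hf.alternating
  have hB : (InvolSim.bil f hf).Nondegenerate := by
    refine ⟨fun v hv => ?_, fun v hv => ?_⟩ <;> by_contra h
    · obtain ⟨-, x, hx⟩ := hf.nondegenerate v h
      exact hx (hv x)
    · obtain ⟨⟨x, hx⟩, -⟩ := hf.nondegenerate v h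
      exact hx (hv x)
  obtain ⟨m, b, hd, h1, h2', h3⟩ := exists_symplectic_basis_nondegenerate hA hB
  rw [Module.finrank_fintype_fun_eq_card, Fintype.card_fin] at hd
  simp only [InvolSim.bil_apply] at h1 h2' h3
  have key : ∀ (r : Fin m ⊕ Fin m ≃ Fin k) (G : Matrix (Fin k) (Fin k) F),
      (∀ x y, G (r x) (r y) = f (b x) (b y)) →
      ∃ M : GL (Fin k) F, (M : Matrix (Fin k) (Fin k) F)ᵀ * gramMatrix f * (M : Matrix (Fin k) (Fin k) F) = G := by
    intro r G hG
    set B := (Pi.basisFun F (Fin k)).toMatrix (b.reindex r) with hBdef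
    have hdet : B.det ≠ 0 := by
      have := congrArg Matrix.det (Module.Basis.toMatrix_mul_toMatrix_flip (Pi.basisFun F (Fin k)) (b.reindex r))
      rw [det_mul, det_one] at this
      exact left_ne_zero_of_mul (this ▸ one_ne_zero)
    refine ⟨Matrix.GeneralLinearGroup.mkOfDetNeZero B hdet, Matrix.ext fun i j => ?_⟩
    show (Bᵀ * gramMatrix f * B) i j = G i j
    have e : ∀ l, (fun a => B a l) = b (r.symm l) := fun l => funext fun a => by
      simp [hBdef, Module.Basis.toMatrix_apply, Module.Basis.reindex_apply]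
    obtain ⟨x, rfl⟩ := r.surjective i
    obtain ⟨y, rfl⟩ := r.surjective j
    rw [hG, form_eq_gram hf.bilinear, Matrix.mul_assoc, Matrix.mul_apply']
    have ex := e (r x)
    have ey := e (r y)
    rw [Equiv.symm_apply_apply] at ex ey
    rw [← ex, ← ey]
    rfl
  rcases (by omega : m = 1 ∨ m = 2) with rfl | rfl
  · obtain rfl : k = 2 := by omega
    refine ⟨Or.inl rfl, gTwo F, ?_⟩
    obtain ⟨M, hM⟩ := key (finSumFinEquiv (m := 1) (n := 1)) (gTwo F) (by
      intro x y
      rcases x with x | x <;> rcases y with y | y <;>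
        fin_cases x <;> fin_cases y <;>
        simp [gTwo, h1, h2', h3, hf.skew (b (Sum.inr _)) (b (Sum.inl _)), finSumFinEquiv] <;>
        linear_combination h2)
    exact ⟨M, by simp [gTwo, Matrix.det_fin_two], ⟨dataTwo h2⟩, hM⟩
  · obtain rfl : k = 4 := by omega
    refine ⟨Or.inr rfl, gFour F, ?_⟩
    let r : Fin 2 ⊕ Fin 2 ≃ Fin 4 :=
      { toFun := Sum.elim ![0, 2] ![1, 3]
        invFun := ![Sum.inl 0, Sum.inr 0, Sum.inl 1, Sum.inr 1]
        left_inv := by decide
        right_inv := by decide }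
    obtain ⟨M, hM⟩ := key r (gFour F) (by
      intro x y
      rcases x with x | x <;> rcases y with y | y <;>
        fin_cases x <;> fin_cases y <;>
        simp [r, gFour, h1, h2', h3, hf.skew (b (Sum.inr _)) (b (Sum.inl _))] <;>
        linear_combination h2)
    refine ⟨M, ?_, ⟨dataFour h2⟩, hM⟩
    refine Matrix.det_ne_zero_of_left_inverse (B := gFour F) ?_
    ext i j
    fin_cases i <;> fin_cases j <;> simp [gFour, Matrix.mul_apply, Fin.sum_univ_four]

end Cfsg.Lib.Classical.SpinOver
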