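import Mathlib

/-!
Factor data for the overgroup of a tensor power of symplectic spaces in even characteristic: in a symplectic
space of dimension two or four, a space of self-adjoint operators with scalar squares.
-/

set_option autoImplicit false
set_option linter.unusedSimpArgs false
set_option linter.unusedSectionVars false
set_option linter.style.haveILetI false

namespace Cfsg.Lib.Classical.SpinOver

open Matrix

universe u

variable {F : Type u} [Field F]

/-- The properties of the operators and of the Gram matrix used in the construction. -/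
structure FactorData (k : ℕ) (G : Matrix (Fin k) (Fin k) F) where
  C : Submodule F (Matrix (Fin k) (Fin k) F)
  adj : ∀ A ∈ C, Aᵀ * G = G * A
  sq : ∀ A ∈ C, ∃ c : F, A * A = c • 1
  inv : ∀ (g : GL (Fin k) F) (c : F), c ≠ 0 →
    (g : Matrix (Fin k) (Fin k) F)ᵀ * G * (g : Matrix (Fin k) (Fin k) F) = c • G →
    ∀ A ∈ C, (g : Matrix (Fin k) (Fin k) F) * A * ((g⁻¹ : GL (Fin k) F) : Matrix (Fin k) (Fin k) F) ∈ C
  comm : ∀ X : Matrix (Fin k) (Fin k) F, (∀ A ∈ C, X * A = A * X) → ∃ c : F, X = c • 1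
  N : Matrix (Fin k) (Fin k) F
  M : Matrix (Fin k) (Fin k) F
  N_mem : N ∈ C
  M_mem : M ∈ C
  N_sq : N * N = 0
  M_sq : M * M = 0
  NM : N * M + M * N = 1
  e0 : Fin k
  e1 : Fin k
  ne01 : e0 ≠ e1
  N_e0 : ∀ a, N a e0 = 0
  N_e1 : ∀ a, N a e1 = if a = e0 then 1 else 0
  M_e0 : ∀ a, M a e0 = if a = e1 then 1 else 0
  diag : ∀ a, G a a = 0
  G_symm : Gᵀ = G
  ac : k = 4 → (∀ a, (G * N) a a = 0) ∧ (∀ a, (G * M) a a = 0)

/-- The Gram matrix of a hyperbolic plane. -/
def gTwo (F : Type u) [Field F] : Matrix (Fin 2) (Fin 2) F := !![0, 1; 1, 0]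

/-- The Gram matrix of two hyperbolic planes. -/
def gFour (F : Type u) [Field F] : Matrix (Fin 4) (Fin 4) F := !![0, 1, 0, 0; 1, 0, 0, 0; 0, 0, 0, 1; 0, 0, 1, 0]

theorem two_eq (h2 : (2 : F) = 0) {a b : F} : a + b = 0 ↔ a = b := by
  constructor
  · intro h; linear_combination h - b * h2
  · intro h; linear_combination h + b * h2

/-- A similitude moves the operators by congruence of their bilinear forms. -/
theorem gram_conj {k : ℕ} {G : Matrix (Fin k) (Fin k) F} (g : GL (Fin k) F) {c : F}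
    (h : (g : Matrix (Fin k) (Fin k) F)ᵀ * G * (g : Matrix (Fin k) (Fin k) F) = c • G)
    (A : Matrix (Fin k) (Fin k) F) :
    G * ((g : Matrix (Fin k) (Fin k) F) * A * ((g⁻¹ : GL (Fin k) F) : Matrix (Fin k) (Fin k) F)) =
      c • (((g⁻¹ : GL (Fin k) F) : Matrix (Fin k) (Fin k) F)ᵀ * (G * A) *
        ((g⁻¹ : GL (Fin k) F) : Matrix (Fin k) (Fin k) F)) := by
  set g' : Matrix (Fin k) (Fin k) F := ((g⁻¹ : GL (Fin k) F) : Matrix (Fin k) (Fin k) F)
  have h1 : g'ᵀ * (g : Matrix (Fin k) (Fin k) F)ᵀ = 1 := by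
    rw [← transpose_mul, show (g : Matrix (Fin k) (Fin k) F) * g' = 1 from Units.mul_inv g, transpose_one]
  have h3 : G * (g : Matrix (Fin k) (Fin k) F) = c • (g'ᵀ * G) := by
    rw [← Matrix.mul_smul, ← h, ← Matrix.mul_assoc, ← Matrix.mul_assoc, h1, Matrix.one_mul]
  rw [← Matrix.mul_assoc, ← Matrix.mul_assoc, h3, Matrix.smul_mul, Matrix.smul_mul]
  simp only [Matrix.mul_assoc]

/-- The self-adjoint operators on a plane. -/
def cTwo (F : Type u) [Field F] : Submodule F (Matrix (Fin 2) (Fin 2) F) where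
  carrier := {A | A 0 0 = A 1 1}
  add_mem' {A B} hA hB := by simp only [Set.mem_ofPred_eq, Matrix.add_apply] at *; rw [hA, hB]
  zero_mem' := rfl
  smul_mem' c A hA := by simp only [Set.mem_ofPred_eq, Matrix.smul_apply] at *; rw [hA]

/-- The alternating operators with scalar square on two planes. -/
def cFour (F : Type u) [Field F] : Submodule F (Matrix (Fin 4) (Fin 4) F) where
  carrier := {A | (∀ a, (gFour F * A) a a = 0) ∧ (gFour F * A)ᵀ = gFour F * A ∧ A 0 0 = A 2 2}
  add_mem' {A B} hA hB := by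
    refine ⟨fun a => ?_, ?_, ?_⟩
    · rw [Matrix.mul_add, Matrix.add_apply, hA.1, hB.1, add_zero]
    · rw [Matrix.mul_add, transpose_add, hA.2.1, hB.2.1]
    · rw [Matrix.add_apply, Matrix.add_apply, hA.2.2, hB.2.2]
  zero_mem' := ⟨fun a => by simp, by simp, rfl⟩
  smul_mem' c A hA := by
    refine ⟨fun a => ?_, ?_, ?_⟩
    · rw [Matrix.mul_smul, Matrix.smul_apply, hA.1, smul_zero]
    · rw [Matrix.mul_smul, transpose_smul, hA.2.1]
    · rw [Matrix.smul_apply, Matrix.smul_apply, hA.2.2]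

theorem cFour_entries {A : Matrix (Fin 4) (Fin 4) F}
    (h1 : ∀ a, (gFour F * A) a a = 0) (hs : (gFour F * A)ᵀ = gFour F * A) :
    A = !![A 0 0, 0, A 0 2, A 0 3; 0, A 0 0, A 1 2, A 1 3; A 1 3, A 0 3, A 2 2, 0; A 1 2, A 0 2, 0, A 2 2] := by
  have hs' : ∀ i j, (gFour F * A) j i = (gFour F * A) i j := fun i j => congrFun (congrFun hs i) j
  have d0 := h1 0; have d1 := h1 1; have d2 := h1 2; have d3 := h1 3
  have s01 := hs' 0 1; have s02 := hs' 0 2; have s03 := hs' 0 3
  have s12 := hs' 1 2; have s13 := hs' 1 3; have s23 := hs' 2 3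
  simp [gFour, Matrix.mul_apply, Fin.sum_univ_four] at d0 d1 d2 d3 s01 s02 s03 s12 s13 s23
  ext i j
  fin_cases i <;> fin_cases j <;> simp [d0, d1, d2, d3, s01, s02, s03, s12, s13, s23]

theorem cFour_sq (h2 : (2 : F) = 0) {A : Matrix (Fin 4) (Fin 4) F} (hA : A ∈ cFour F) :
    ∃ c : F, A * A = c • (1 : Matrix (Fin 4) (Fin 4) F) := by
  refine ⟨A 0 0 * A 0 0 + A 0 2 * A 1 3 + A 0 3 * A 1 2, ?_⟩
  rw [cFour_entries hA.1 hA.2.1]
  simp only [← hA.2.2]
  ext i j
  fin_cases i <;> fin_cases j <;> simp [Matrix.mul_apply, Fin.sum_univ_four] <;> ring_nf <;> simp [h2]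

/-- In a symplectic plane. -/
def dataTwo (h2 : (2 : F) = 0) : FactorData 2 (gTwo F) where
  C := cTwo F
  adj A hA := by
    have hA' : A 0 0 = A 1 1 := hA
    ext i j
    fin_cases i <;> fin_cases j <;> simp [gTwo, Matrix.mul_apply, Fin.sum_univ_two, hA']
  sq A hA := by
    have hA' : A 0 0 = A 1 1 := hA
    refine ⟨A 0 0 * A 0 0 + A 0 1 * A 1 0, ?_⟩
    ext i j
    fin_cases i <;> fin_cases j <;> simp [Matrix.mul_apply, Fin.sum_univ_two, hA']
    · linear_combination (A 0 1 * A 1 1) * h2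
    · linear_combination (A 1 0 * A 1 1) * h2
    · ring
  inv g c _ _ A hA := by
    have hA' : A 0 0 = A 1 1 := hA
    show _ = _
    have h := congrArg id (Matrix.trace_units_conj g A)
    simp only [id_eq, Matrix.trace_fin_two] at h
    rw [hA', (two_eq h2).mpr rfl] at h
    exact (two_eq h2).mp h
  comm X hX := by
    have ha := hX !![0, 1; 0, 0] (show _ = _ by simp)
    have hb := hX !![0, 0; 1, 0] (show _ = _ by simp)
    have a00 := congrFun (congrFun ha 0) 0
    have a01 := congrFun (congrFun ha 0) 1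
    have b00 := congrFun (congrFun hb 0) 0
    simp [Matrix.mul_apply, Fin.sum_univ_two] at a00 a01 b00
    refine ⟨X 0 0, ?_⟩
    ext i j
    fin_cases i <;> fin_cases j <;> simp [← a00, a01, b00]
  N := !![0, 1; 0, 0]
  M := !![0, 0; 1, 0]
  N_mem := show _ = _ by simp
  M_mem := show _ = _ by simp
  N_sq := by ext i j; fin_cases i <;> fin_cases j <;> simp [Matrix.mul_apply, Fin.sum_univ_two]
  M_sq := by ext i j; fin_cases i <;> fin_cases j <;> simp [Matrix.mul_apply, Fin.sum_univ_two]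
  NM := by ext i j; fin_cases i <;> fin_cases j <;> simp [Matrix.mul_apply, Fin.sum_univ_two]
  e0 := 0
  e1 := 1
  ne01 := by decide
  N_e0 a := by fin_cases a <;> simp
  N_e1 a := by fin_cases a <;> simp
  M_e0 a := by fin_cases a <;> simp
  diag a := by fin_cases a <;> simp [gTwo]
  G_symm := by ext i j; fin_cases i <;> fin_cases j <;> simp [gTwo]
  ac h := absurd h (by norm_num)

set_option maxHeartbeats 2000000 in
/-- In a symplectic space of dimension four. -/
def dataFour (h2 : (2 : F) = 0) : FactorData 4 (gFour F) where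
  C := cFour F
  adj A hA := by
    have h := hA.2.1
    rw [transpose_mul, show (gFour F)ᵀ = gFour F by ext i j; fin_cases i <;> fin_cases j <;> simp [gFour]] at h
    exact h
  sq A hA := cFour_sq h2 hA
  inv g c _ hg A hA := by
    have hG := gram_conj g hg A
    set g' : Matrix (Fin 4) (Fin 4) F := ((g⁻¹ : GL (Fin 4) F) : Matrix (Fin 4) (Fin 4) F) with hg'
    set S := gFour F * A with hS
    set A' := (g : Matrix (Fin 4) (Fin 4) F) * A * g' with hA'
    have hsym : (gFour F * A')ᵀ = gFour F * A' := by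
      rw [hG, transpose_smul, transpose_mul, transpose_mul, transpose_transpose, show Sᵀ = S from hA.2.1]; simp only [Matrix.mul_assoc]
    have hd : ∀ a, (gFour F * A') a a = 0 := by
      intro a
      rw [hG, Matrix.smul_apply]
      have hss : ∀ i j, S j i = S i j := fun i j => congrFun (congrFun hA.2.1 i) j
      have hsd := hA.1
      simp only [← hS] at hsd
      have : (g'ᵀ * S * g') a a = 0 := by
        simp only [Matrix.mul_apply, Matrix.transpose_apply, Fin.sum_univ_four, hsd, hss 0 1, hss 0 2, hss 0 3,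
          hss 1 2, hss 1 3, hss 2 3]
        linear_combination (g' 0 a * S 0 1 * g' 1 a + g' 0 a * S 0 2 * g' 2 a + g' 0 a * S 0 3 * g' 3 a +
          g' 1 a * S 1 2 * g' 2 a + g' 1 a * S 1 3 * g' 3 a + g' 2 a * S 2 3 * g' 3 a) * h2
      rw [this, smul_zero]
    refine ⟨hd, hsym, ?_⟩
    have hgg : g' * (g : Matrix (Fin 4) (Fin 4) F) = 1 := Units.inv_mul g
    have hgg' : (g : Matrix (Fin 4) (Fin 4) F) * g' = 1 := Units.mul_inv g
    obtain ⟨d, hd2⟩ := cFour_sq h2 hA
    have hsq : A' * A' = d • (1 : Matrix (Fin 4) (Fin 4) F) := by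
      calc A' * A' = (g : Matrix (Fin 4) (Fin 4) F) * (A * ((g' * (g : Matrix (Fin 4) (Fin 4) F)) * A)) * g' := by
            simp only [hA', Matrix.mul_assoc]
        _ = _ := by rw [hgg, Matrix.one_mul, hd2, Matrix.mul_smul, Matrix.mul_one, Matrix.smul_mul, hgg']
    rw [cFour_entries hd hsym] at hsq
    have e0 := congrFun (congrFun hsq 0) 0
    have e2 := congrFun (congrFun hsq 2) 2
    simp [Matrix.mul_apply, Fin.sum_univ_four] at e0 e2
    have e3 : (A' 0 0 - A' 2 2) * (A' 0 0 - A' 2 2) = 0 := by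
      linear_combination e0 - e2 - (A' 0 0 * A' 2 2 - A' 2 2 * A' 2 2) * h2
    exact sub_eq_zero.mp (mul_self_eq_zero.mp e3)
  comm X hX := by
    have hs := hX !![0, 0, 1, 0; 0, 0, 0, 0; 0, 0, 0, 0; 0, 1, 0, 0] ⟨fun a => by
      fin_cases a <;> simp [gFour, Matrix.mul_apply, Fin.sum_univ_four], by
      ext i j; fin_cases i <;> fin_cases j <;> simp [gFour, Matrix.mul_apply, Fin.sum_univ_four], by simp⟩
    have hu := hX !![0, 0, 0, 1; 0, 0, 0, 0; 0, 1, 0, 0; 0, 0, 0, 0] ⟨fun a => by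
      fin_cases a <;> simp [gFour, Matrix.mul_apply, Fin.sum_univ_four], by
      ext i j; fin_cases i <;> fin_cases j <;> simp [gFour, Matrix.mul_apply, Fin.sum_univ_four], by simp⟩
    have hp := hX !![0, 0, 0, 0; 0, 0, 1, 0; 0, 0, 0, 0; 1, 0, 0, 0] ⟨fun a => by
      fin_cases a <;> simp [gFour, Matrix.mul_apply, Fin.sum_univ_four], by
      ext i j; fin_cases i <;> fin_cases j <;> simp [gFour, Matrix.mul_apply, Fin.sum_univ_four], by simp⟩
    have hr := hX !![0, 0, 0, 0; 0, 0, 0, 1; 1, 0, 0, 0; 0, 0, 0, 0] ⟨fun a => by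
      fin_cases a <;> simp [gFour, Matrix.mul_apply, Fin.sum_univ_four], by
      ext i j; fin_cases i <;> fin_cases j <;> simp [gFour, Matrix.mul_apply, Fin.sum_univ_four], by simp⟩
    have E : ∀ {A B : Matrix (Fin 4) (Fin 4) F}, A = B → ∀ i j, A i j = B i j := fun h i j => by rw [h]
    refine ⟨X 0 0, ?_⟩
    have t20 := E hs 0 0; have t22 := E hs 0 2; have t23 := E hs 0 3; have t13 := E hs 1 1; have t10 := E hs 1 2
    have t30 := E hu 0 0; have t32 := E hu 0 2; have t33 := E hu 0 3; have t12 := E hu 1 1; have t11 := E hu 2 1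
    have t03 := E hp 0 0; have t01 := E hp 0 2; have t21 := E hp 1 1
    have t02 := E hr 0 0; have t31 := E hr 1 1
    simp [Matrix.mul_apply, Fin.sum_univ_four] at t20 t22 t23 t13 t10 t30 t32 t33 t12 t11 t03 t01 t21 t02 t31
    ext i j
    fin_cases i <;> fin_cases j <;> simp [← t20, ← t22, ← t23, t13, t10, ← t30, ← t32, ← t33, t12, ← t11, t03, t01, ← t21, t02, ← t31]
  N := !![0, 0, 1, 0; 0, 0, 0, 0; 0, 0, 0, 0; 0, 1, 0, 0]
  M := !![0, 0, 0, 0; 0, 0, 0, 1; 1, 0, 0, 0; 0, 0, 0, 0]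
  N_mem := ⟨fun a => by fin_cases a <;> simp [gFour, Matrix.mul_apply, Fin.sum_univ_four], by
    ext i j; fin_cases i <;> fin_cases j <;> simp [gFour, Matrix.mul_apply, Fin.sum_univ_four], by simp⟩
  M_mem := ⟨fun a => by fin_cases a <;> simp [gFour, Matrix.mul_apply, Fin.sum_univ_four], by
    ext i j; fin_cases i <;> fin_cases j <;> simp [gFour, Matrix.mul_apply, Fin.sum_univ_four], by simp⟩
  N_sq := by ext i j; fin_cases i <;> fin_cases j <;> simp [Matrix.mul_apply, Fin.sum_univ_four]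
  M_sq := by ext i j; fin_cases i <;> fin_cases j <;> simp [Matrix.mul_apply, Fin.sum_univ_four]
  NM := by ext i j; fin_cases i <;> fin_cases j <;> simp [Matrix.mul_apply, Fin.sum_univ_four]
  e0 := 0
  e1 := 2
  ne01 := by decide
  N_e0 a := by fin_cases a <;> simp
  N_e1 a := by fin_cases a <;> simp
  M_e0 a := by fin_cases a <;> simp
  diag a := by fin_cases a <;> simp [gFour]
  G_symm := by ext i j; fin_cases i <;> fin_cases j <;> simp [gFour]
  ac _ := ⟨fun a => by fin_cases a <;> simp [gFour, Matrix.mul_apply, Fin.sum_univ_four],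
    fun a => by fin_cases a <;> simp [gFour, Matrix.mul_apply, Fin.sum_univ_four]⟩

end Cfsg.Lib.Classical.SpinOver
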