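import Cfsg.Agent.Classical.SpinOvergroup.Space
import Cfsg.Agent.Classical.Aschbacher.LinearMembers
import Cfsg.Agent.Classical.Orth.OmegaGen

/-!
The stabiliser of the tensor-power decomposition is properly contained in the stabiliser of the operator space,
which is a proper subgroup of `Ω`.
-/

set_option autoImplicit false
set_option linter.unusedSimpArgs false
set_option linter.unusedSectionVars false
set_option linter.style.haveILetI false

namespace Cfsg.Lib.Classical.SpinOver

open Matrix Cfsg.Geo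
open Cfsg.Lib.Classical.Aschbacher
open scoped MatrixGroups

universe u

variable {F : Type u} [Field F] {k t : ℕ}

theorem gramK_single_pair (G : Matrix (Fin k) (Fin k) F) (x y : Fin t → Fin k) :
    gramK t G x y = ∏ l, G (x l) (y l) := rfl

/-- A quadratic form and its transform agree if they agree on a basis and have the same polar form. -/
theorem quad_ext {κ : Type} [Fintype κ] [DecidableEq κ] (P : QuadraticForm F (κ → F)) (L : Matrix κ κ F)
    (hp : ∀ x y, QuadraticMap.polar (⇑P) (L *ᵥ x) (L *ᵥ y) = QuadraticMap.polar (⇑P) x y)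
    (hb : ∀ a, P (L *ᵥ Pi.single a 1) = P (Pi.single a 1)) (x : κ → F) : P (L *ᵥ x) = P x := by
  have hadd : ∀ x y, P (x + y) = P x + P y + QuadraticMap.polar (⇑P) x y := fun x y => by
    simp [QuadraticMap.polar]
  have key : ∀ s : Finset κ, P (L *ᵥ ∑ a ∈ s, x a • Pi.single a (1 : F)) = P (∑ a ∈ s, x a • Pi.single a (1 : F)) := by
    intro s
    induction s using Finset.induction with
    | empty => simp
    | insert a s has ih =>
      rw [Finset.sum_insert has, Matrix.mulVec_add, hadd, hadd (x a • (Pi.single a (1 : F) : κ → F)), ih, hp,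
        Matrix.mulVec_smul, QuadraticMap.map_smul, QuadraticMap.map_smul, hb]
  have e : ∑ a, x a • Pi.single a (1 : F) = x := by
    funext i; simp [Finset.sum_apply, Pi.single_apply]
  simpa [e] using key Finset.univ

/-- Quadratic forms are additive on three pairwise orthogonal vectors. -/
theorem quad_three {κ : Type} (P : QuadraticForm F (κ → F)) {a b c : κ → F}
    (hab : QuadraticMap.polar (⇑P) a b = 0) (hac : QuadraticMap.polar (⇑P) a c = 0)
    (hbc : QuadraticMap.polar (⇑P) b c = 0) : P (a + b + c) = P a + P b + P c := by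
  have h1 : P (a + b + c) = P (a + b) + P c + QuadraticMap.polar (⇑P) (a + b) c := by simp [QuadraticMap.polar]
  have h2 : P (a + b) = P a + P b + QuadraticMap.polar (⇑P) a b := by simp [QuadraticMap.polar]
  rw [h1, h2, QuadraticMap.polar_add_left, hab, hac, hbc]
  ring

/-- The vector with prescribed tensor factors. -/
def pureVec (xs : Fin t → Fin k → F) : (Fin t → Fin k) → F := fun a => ∏ i, xs i (a i)

theorem single_pure (p : Fin t → Fin k) :
    (Pi.single p 1 : (Fin t → Fin k) → F) = pureVec (fun i => Pi.single (p i) 1) := by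
  funext z
  by_cases h : z = p
  · subst h; simp [pureVec]
  · obtain ⟨i, hi⟩ := Function.ne_iff.mp h
    rw [Pi.single_eq_of_ne h, pureVec, Finset.prod_eq_zero (Finset.mem_univ i) (Pi.single_eq_of_ne hi 1)]

theorem piKron_pure (A : Fin t → Matrix (Fin k) (Fin k) F) (xs : Fin t → Fin k → F) :
    piKron (d := fun _ => k) A *ᵥ pureVec xs = pureVec fun i => A i *ᵥ xs i := by
  funext z
  show ∑ w, piKron (d := fun _ => k) A z w * pureVec xs w = ∏ i, ∑ b, A i (z i) b * xs i b
  rw [Fintype.prod_sum]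
  exact Finset.sum_congr rfl fun w _ => by rw [piKron_apply, pureVec, Finset.prod_mul_distrib]

theorem dot_pure (xs ys : Fin t → Fin k → F) : pureVec xs ⬝ᵥ pureVec ys = ∏ i, xs i ⬝ᵥ ys i := by
  show ∑ w, pureVec xs w * pureVec ys w = ∏ i, ∑ b, xs i b * ys i b
  rw [Fintype.prod_sum]
  exact Finset.sum_congr rfl fun w _ => by rw [pureVec, pureVec, Finset.prod_mul_distrib]

theorem gram_pure (G : Matrix (Fin k) (Fin k) F) (xs ys : Fin t → Fin k → F) :
    pureVec xs ⬝ᵥ (gramK t G *ᵥ pureVec ys) = ∏ i, xs i ⬝ᵥ (G *ᵥ ys i) := by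
  rw [gramK, piKron_pure, dot_pure]

theorem facK_pure (i : Fin t) (A : Matrix (Fin k) (Fin k) F) (xs : Fin t → Fin k → F) :
    facK i A *ᵥ pureVec xs = pureVec (Function.update xs i (A *ᵥ xs i)) := by
  rw [facK, fac, piKron_pure]
  congr 1
  funext j
  by_cases h : j = i
  · subst h; simp
  · rw [Pi.mulSingle_eq_of_ne h, Function.update_of_ne h, Matrix.one_mulVec]

variable [Fintype F] {ι : Type} [Fintype ι] [DecidableEq ι]

theorem rank_add_two (A B : Matrix ι ι F) : (A + B).rank ≤ A.rank + B.rank := by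
  rw [Matrix.rank, Matrix.rank, Matrix.rank, Matrix.mulVecLin_add]
  refine le_trans (Submodule.finrank_mono (LinearMap.range_add_le _ _)) ?_
  exact Submodule.finrank_add_le_finrank_add_finrank _ _

theorem rank_vecMulVec_add (a b c d : ι → F) : (vecMulVec a b + vecMulVec c d).rank ≤ 2 := by
  refine le_trans (rank_add_two _ _) ?_
  have h1 := Matrix.rank_vecMulVec_le a b
  have h2 := Matrix.rank_vecMulVec_le c d
  omega

theorem rank_smul_one {c : F} (hc : c ≠ 0) : (c • (1 : Matrix ι ι F)).rank = Fintype.card ι :=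
  Matrix.rank_of_isUnit _ (by
    rw [Matrix.isUnit_iff_isUnit_det, Matrix.det_smul, Matrix.det_one, mul_one]
    exact (pow_ne_zero _ hc).isUnit)

theorem exists_strictly_between (h2 : (2 : F) = 0) (hn : 13 ≤ Fintype.card ι) (Q : QuadraticForm F (ι → F))
    (hQn : (QuadraticMap.polarBilin Q).Nondegenerate) (ht : 2 ≤ t) (htk : 3 ≤ t ∨ k = 4)
    {G : Matrix (Fin k) (Fin k) F} (hG : G.det ≠ 0) (D : FactorData k G)
    {Φ : Matrix ι (Fin t → Fin k) F} {Ψ : Matrix (Fin t → Fin k) ι F} (hc : Coords Φ Ψ) {c : F} (hc0 : c ≠ 0)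
    (hpol : ∀ x y : (Fin t → Fin k) → F,
      QuadraticMap.polar (⇑Q) (Φ *ᵥ x) (Φ *ᵥ y) = c * (x ⬝ᵥ (gramK t G *ᵥ y)))
    (hpure : ∀ xs : Fin t → Fin k → F, Q (Φ *ᵥ pureVec xs) = 0)
    (H : Subgroup (GL ι F)) (hHΩ : H ≤ Cfsg.Geo.omegaGL (⇑Q))
    (hHW : ∀ h ∈ H, IsWreathMat (Ψ * (h : Matrix ι ι F) * Φ)) :
    ∃ K : Subgroup (GL ι F), H < K ∧ K < Cfsg.Geo.omegaGL (⇑Q) := by
  classical
  haveI : Nonempty (Fin k) := ⟨D.e0⟩
  have hiso : ∀ g ∈ Cfsg.Geo.omegaGL (⇑Q), ∀ v, Q ((g : Matrix ι ι F) *ᵥ v) = Q v := by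
    rintro g ⟨g', -, rfl⟩ v
    exact (Cfsg.Lib.Classical.Refl.mem_iff Q).mp g'.2 v
  have hpolg : ∀ g ∈ Cfsg.Geo.omegaGL (⇑Q), ∀ u v,
      QuadraticMap.polar (⇑Q) ((g : Matrix ι ι F) *ᵥ u) ((g : Matrix ι ι F) *ᵥ v) = QuadraticMap.polar (⇑Q) u v := by
    intro g hg u v
    simp only [QuadraticMap.polar, ← Matrix.mulVec_add, hiso g hg]
  -- similitudes in the factors
  have hsim : ∀ h ∈ H, ∃ (σ : Equiv.Perm (Fin t)) (a : Fin t → GL (Fin k) F),
      Ψ * (h : Matrix ι ι F) * Φ = permMat F σ * (piKron (d := fun _ => k) fun i => (a i : Matrix (Fin k) (Fin k) F)) ∧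
      ∀ i, ∃ d : F, d ≠ 0 ∧ (a i : Matrix (Fin k) (Fin k) F)ᵀ * G * (a i : Matrix (Fin k) (Fin k) F) = d • G := by
    intro h hh
    obtain ⟨σ, a, e⟩ := hHW h hh
    refine ⟨σ, a, e, fun i => ?_⟩
    set M : Matrix (Fin t → Fin k) (Fin t → Fin k) F := Ψ * (h : Matrix ι ι F) * Φ with hM
    have hMG : Mᵀ * gramK t G * M = gramK t G := by
      refine Matrix.ext fun p q => ?_
      have h1 := hpolg h (hHΩ hh) (Φ *ᵥ Pi.single p 1) (Φ *ᵥ Pi.single q 1)
      have eM : ∀ x : (Fin t → Fin k) → F, (h : Matrix ι ι F) *ᵥ (Φ *ᵥ x) = Φ *ᵥ (M *ᵥ x) := fun x => by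
        rw [Matrix.mulVec_mulVec, Matrix.mulVec_mulVec, hM, ← Matrix.mul_assoc, ← Matrix.mul_assoc, hc.left,
          Matrix.one_mul]
      rw [eM, eM, hpol, hpol] at h1
      have h1' := mul_left_cancel₀ hc0 h1
      rw [Matrix.mulVec_single_one, Matrix.mulVec_single_one, Matrix.dotProduct_mulVec] at h1'
      rw [single_one_dotProduct] at h1'
      rw [Matrix.mul_apply', Matrix.mul_apply_eq_vecMul]
      simpa [Matrix.vecMul, dotProduct, Matrix.mulVec_single_one, Matrix.col] using h1'
    have hwr := wreath_congr (RingEquiv.refl F) σ (fun i => (a i : Matrix (Fin k) (Fin k) F)) (fun _ => G)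
    rw [show ((fun i => (a i : Matrix (Fin k) (Fin k) F)) : Fin t → Matrix (Fin k) (Fin k) F) =
      fun i => (a i : Matrix (Fin k) (Fin k) F) from rfl, ← e] at hwr
    have hmap : ∀ {κ : Type} (X : Matrix κ κ F), X.map (RingEquiv.refl F) = X := fun X => by ext i j; rfl
    simp only [hmap] at hwr
    rw [hMG] at hwr
    exact piKron_eq_piKron (d := fun _ => k) hwr.symm (fun _ e0 => hG (by
      rw [e0, Matrix.det_zero])) i
  -- the stabiliser of the operator space
  let φ : Matrix (Fin t → Fin k) (Fin t → Fin k) F → Matrix ι ι F := fun X => Φ * X * Ψ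
  have φmul : ∀ X Y, φ X * φ Y = φ (X * Y) := fun X Y => by
    simp only [φ, Matrix.mul_assoc]
    rw [← Matrix.mul_assoc Ψ Φ, hc.right, Matrix.one_mul]
  let S : Subgroup (GL ι F) :=
    { carrier := {g | (∀ X ∈ opSpace D t, ∃ Y ∈ opSpace D t, (g : Matrix ι ι F) * φ X = φ Y * (g : Matrix ι ι F)) ∧
        (∀ X ∈ opSpace D t, ∃ Y ∈ opSpace D t,
          ((g⁻¹ : GL ι F) : Matrix ι ι F) * φ X = φ Y * ((g⁻¹ : GL ι F) : Matrix ι ι F))}
      one_mem' := ⟨fun X hX => ⟨X, hX, by simp⟩, fun X hX => ⟨X, hX, by simp⟩⟩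
      mul_mem' := fun {a b} ha hb => ⟨fun X hX => by
          obtain ⟨Y, hY, eY⟩ := hb.1 X hX
          obtain ⟨Z, hZ, eZ⟩ := ha.1 Y hY
          exact ⟨Z, hZ, by rw [Units.val_mul, Matrix.mul_assoc, eY, ← Matrix.mul_assoc, eZ, Matrix.mul_assoc]⟩,
        fun X hX => by
          obtain ⟨Y, hY, eY⟩ := ha.2 X hX
          obtain ⟨Z, hZ, eZ⟩ := hb.2 Y hY
          exact ⟨Z, hZ, by rw [_root_.mul_inv_rev, Units.val_mul, Matrix.mul_assoc, eY, ← Matrix.mul_assoc, eZ,
            Matrix.mul_assoc]⟩⟩
      inv_mem' := fun {a} ha => ⟨ha.2, by rw [inv_inv]; exact ha.1⟩ }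
  have hHS : H ≤ S := by
    have one : ∀ h ∈ H, ∀ X ∈ opSpace D t, ∃ Y ∈ opSpace D t, (h : Matrix ι ι F) * φ X = φ Y * (h : Matrix ι ι F) := by
      intro h hh X hX
      obtain ⟨σ, a, e, hs⟩ := hsim h hh
      obtain ⟨Y, hY, eY⟩ := opSpace_conj D (σ := σ) hs hX
      refine ⟨Y, hY, ?_⟩
      rw [← e] at eY
      rw [← hc.unconj_conj (h : Matrix ι ι F)]
      exact (φmul _ _).trans ((congrArg φ eY).trans (φmul _ _).symm)
    exact fun h hh => ⟨one h hh, one h⁻¹ (H.inv_mem hh)⟩
  set K := S ⊓ Cfsg.Geo.omegaGL (⇑Q) with hK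
  -- indices
  let i₀ : Fin t := ⟨0, by omega⟩
  let j₀ : Fin t := ⟨1, by omega⟩
  have hij : i₀ ≠ j₀ := by simp [i₀, j₀]
  refine ⟨K, lt_of_le_not_ge (le_inf hHS hHΩ) ?_, lt_of_le_not_ge inf_le_right ?_⟩
  · -- an element of the operator stabiliser outside the decomposition stabiliser
    intro hle
    set U : Matrix (Fin t → Fin k) (Fin t → Fin k) F := 1 + facK i₀ D.N with hU
    set V : Matrix (Fin t → Fin k) (Fin t → Fin k) F := 1 + facK i₀ D.M + facK j₀ D.N with hV
    have hUm : U ∈ opSpace D t := add_mem (one_mem_opSpace D) (facK_mem_opSpace D _ D.N_mem)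
    have hVm : V ∈ opSpace D t :=
      add_mem (add_mem (one_mem_opSpace D) (facK_mem_opSpace D _ D.M_mem)) (facK_mem_opSpace D _ D.N_mem)
    have two0 : ∀ X : Matrix (Fin t → Fin k) (Fin t → Fin k) F, X + X = 0 := fun X => by
      rw [← two_smul F, h2, zero_smul]
    have nn : facK i₀ D.N * facK i₀ D.N = 0 := by rw [facK_mul, D.N_sq, facK_zero]
    have mm : facK i₀ D.M * facK i₀ D.M = 0 := by rw [facK_mul, D.M_sq, facK_zero]
    have nj : facK j₀ D.N * facK j₀ D.N = 0 := by rw [facK_mul, D.N_sq, facK_zero]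
    have cm := facK_commute (F := F) hij D.M D.N
    have cn := facK_commute (F := F) hij D.N D.N
    have nm : facK i₀ D.N * facK i₀ D.M + facK i₀ D.M * facK i₀ D.N = 1 := by
      rw [facK_mul, facK_mul, ← facK_add, D.NM, facK_one]
    have hUU : U * U = 1 := by
      calc U * U = 1 + (facK i₀ D.N + facK i₀ D.N) + facK i₀ D.N * facK i₀ D.N := by rw [hU]; noncomm_ring
        _ = 1 := by rw [two0, nn, add_zero, add_zero]
    have hVV : V * V = 1 := by
      calc V * V = 1 + (facK i₀ D.M + facK i₀ D.M) + (facK j₀ D.N + facK j₀ D.N) + facK i₀ D.M * facK i₀ D.M +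
            facK j₀ D.N * facK j₀ D.N + (facK i₀ D.M * facK j₀ D.N + facK j₀ D.N * facK i₀ D.M) := by
            rw [hV]; noncomm_ring
        _ = 1 := by rw [two0, two0, mm, nj, ← cm, two0]; simp only [add_zero]
    have hUV : U * V + V * U = 1 := by
      calc U * V + V * U = (1 + 1) + (facK i₀ D.M + facK i₀ D.M) + (facK j₀ D.N + facK j₀ D.N) +
            (facK i₀ D.N + facK i₀ D.N) + (facK i₀ D.N * facK i₀ D.M + facK i₀ D.M * facK i₀ D.N) +
            (facK i₀ D.N * facK j₀ D.N + facK j₀ D.N * facK i₀ D.N) := by rw [hU, hV]; noncomm_ring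
        _ = 1 := by simp only [two0, nm, ← cn, add_zero, zero_add]
    -- the polar form in coordinates
    let P : QuadraticForm F ((Fin t → Fin k) → F) := Q.comp (Matrix.toLin' Φ)
    have hP : ∀ x, P x = Q (Φ *ᵥ x) := fun x => by
      show Q (Matrix.toLin' Φ x) = _
      rw [Matrix.toLin'_apply]
    have hPpol : ∀ x y, QuadraticMap.polar (⇑P) x y = c * (x ⬝ᵥ (gramK t G *ᵥ y)) := fun x y => by
      rw [← hpol]
      simp only [QuadraticMap.polar, hP, Matrix.mulVec_add]
    -- operators with square one preserve the form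
    have pres : ∀ W ∈ opSpace D t, W * W = 1 →
        (∀ p, P (W *ᵥ Pi.single p 1) = 0) → ∀ x, P (W *ᵥ x) = P x := by
      intro W hW hWW hb
      refine quad_ext P W (fun x y => ?_) fun p => ?_
      · rw [hPpol, hPpol]
        congr 1
        rw [← Matrix.vecMul_transpose, ← Matrix.dotProduct_mulVec, Matrix.mulVec_mulVec, Matrix.mulVec_mulVec,
          opSpace_adj D hW, Matrix.mul_assoc, hWW, Matrix.mul_one]
      · rw [hb, hP, single_pure]; exact (hpure _).symm
    have pp : ∀ (xs ys : Fin t → Fin k → F) (l : Fin t), xs l ⬝ᵥ (G *ᵥ ys l) = 0 →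
        QuadraticMap.polar (⇑P) (pureVec xs) (pureVec ys) = 0 := by
      intro xs ys l hl
      rw [hPpol, gram_pure, Finset.prod_eq_zero (Finset.mem_univ l) hl, mul_zero]
    have ss : ∀ a : Fin k, (Pi.single a 1 : Fin k → F) ⬝ᵥ (G *ᵥ Pi.single a 1) = 0 := fun a => by
      rw [single_one_dotProduct, Matrix.mulVec_single_one]; exact D.diag a
    have hN4 : ∀ a : Fin k, k = 4 →
        (Pi.single a 1 : Fin k → F) ⬝ᵥ (G *ᵥ (D.N *ᵥ Pi.single a 1)) = 0 := fun a h4 => by
      rw [single_one_dotProduct, Matrix.mulVec_mulVec, Matrix.mulVec_single_one]; exact (D.ac h4).1 a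
    have hM4 : ∀ a : Fin k, k = 4 →
        (D.M *ᵥ Pi.single a 1) ⬝ᵥ (G *ᵥ (Pi.single a 1 : Fin k → F)) = 0 := fun a h4 => by
      rw [← Matrix.vecMul_transpose, ← Matrix.dotProduct_mulVec, single_one_dotProduct, Matrix.mulVec_mulVec,
        D.adj D.M D.M_mem, Matrix.mulVec_single_one]
      exact (D.ac h4).2 a
    have pbU : ∀ p, P (U *ᵥ Pi.single p 1) = 0 := by
      intro p
      set xs : Fin t → Fin k → F := fun i => Pi.single (p i) 1 with hxs
      rw [single_pure, ← hxs, hU, Matrix.add_mulVec, Matrix.one_mulVec, facK_pure]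
      have hq : ∀ ys, P (pureVec ys) = 0 := fun ys => by rw [hP]; exact hpure ys
      have h12 := pp xs (Function.update xs i₀ (D.N *ᵥ xs i₀)) j₀ (by
        rw [Function.update_of_ne hij.symm]; exact ss _)
      have e : P (pureVec xs + pureVec (Function.update xs i₀ (D.N *ᵥ xs i₀))) =
          P (pureVec xs) + P (pureVec (Function.update xs i₀ (D.N *ᵥ xs i₀))) +
          QuadraticMap.polar (⇑P) (pureVec xs) (pureVec (Function.update xs i₀ (D.N *ᵥ xs i₀))) := by
        simp [QuadraticMap.polar]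
      rw [e, hq, hq, h12, add_zero, add_zero]
    have pbV : ∀ p, P (V *ᵥ Pi.single p 1) = 0 := by
      intro p
      set xs : Fin t → Fin k → F := fun i => Pi.single (p i) 1 with hxs
      rw [single_pure, ← hxs, hV, Matrix.add_mulVec, Matrix.add_mulVec, Matrix.one_mulVec, facK_pure, facK_pure]
      have hq : ∀ ys, P (pureVec ys) = 0 := fun ys => by rw [hP]; exact hpure ys
      rw [quad_three, hq, hq, hq, add_zero, add_zero]
      · exact pp _ _ j₀ (by rw [Function.update_of_ne hij.symm]; exact ss _)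
      · exact pp _ _ i₀ (by rw [Function.update_of_ne hij]; exact ss _)
      · rcases htk with h3 | h4
        · exact pp _ _ (⟨2, by omega⟩ : Fin t) (by
            rw [Function.update_of_ne (by simp [i₀, Fin.ext_iff]), Function.update_of_ne (by simp [j₀, Fin.ext_iff])]
            exact ss _)
        · exact pp _ _ i₀ (by
            rw [Function.update_self, Function.update_of_ne hij]
            exact hM4 _ h4)
    -- the corresponding group elements
    have lift : ∀ W ∈ opSpace D t, W * W = 1 → (∀ x, P (W *ᵥ x) = P x) →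
        ∃ g : Cfsg.isometryGroup F (⇑Q), (g : GL ι F) ∈ S ∧ ((g : GL ι F) : Matrix ι ι F) = φ W := by
      intro W hW hWW hWP
      have hinv : φ W * φ W = 1 := by
        rw [φmul, hWW]; show Φ * 1 * Ψ = 1; rw [Matrix.mul_one, hc.left]
      have hmem : (⟨φ W, φ W, hinv, hinv⟩ : GL ι F) ∈ Cfsg.isometryGroup F (⇑Q) := by
        refine (Cfsg.Lib.Classical.Refl.mem_iff Q).mpr fun v => ?_
        have hv : v = Φ *ᵥ (Ψ *ᵥ v) := by rw [Matrix.mulVec_mulVec, hc.left, Matrix.one_mulVec]
        show Q ((Φ * W * Ψ) *ᵥ v) = Q v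
        conv_rhs => rw [hv]
        rw [← Matrix.mulVec_mulVec, ← Matrix.mulVec_mulVec, ← hP, ← hP, hWP]
      refine ⟨⟨_, hmem⟩, ?_, rfl⟩
      have hone : ∀ X ∈ opSpace D t, ∃ Y ∈ opSpace D t, φ W * φ X = φ Y * φ W := by
        intro X hX
        obtain ⟨b, hb⟩ := anticomm D h2 hW hX
        refine ⟨X + b • W, add_mem hX (Submodule.smul_mem _ _ hW), ?_⟩
        rw [φmul, φmul]
        congr 1
        rw [Matrix.add_mul, Matrix.smul_mul, hWW, ← hb]
        have : X * W + (W * X + X * W) = W * X + (X * W + X * W) := by abel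
        rw [this, two0, add_zero]
      exact ⟨hone, hone⟩
    obtain ⟨gu, hguS, hgu⟩ := lift U hUm hUU (pres U hUm hUU pbU)
    obtain ⟨gv, hgvS, hgv⟩ := lift V hVm hVV (pres V hVm hVV pbV)
    let x : Cfsg.isometryGroup F (⇑Q) := gu * gv * gu⁻¹ * gv⁻¹
    have hxK : (x : GL ι F) ∈ K := by
      refine ⟨?_, ⟨x, ?_, rfl⟩⟩
      · exact S.mul_mem (S.mul_mem (S.mul_mem hguS hgvS) (S.inv_mem hguS)) (S.inv_mem hgvS)
      · exact Subgroup.commutator_mem_commutator (Subgroup.mem_top gu) (Subgroup.mem_top gv)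
    have hu1 : ∀ (g : Cfsg.isometryGroup F (⇑Q)) (W : Matrix (Fin t → Fin k) (Fin t → Fin k) F), W * W = 1 →
        ((g : GL ι F) : Matrix ι ι F) = φ W → ((((g⁻¹ : Cfsg.isometryGroup F (⇑Q)) : GL ι F)) : Matrix ι ι F) = φ W := by
      intro g W hWW hg
      have : φ W * φ W = 1 := by
        rw [φmul, hWW]; show Φ * 1 * Ψ = 1; rw [Matrix.mul_one, hc.left]
      exact Units.inv_eq_of_mul_eq_one_right (hg ▸ this)
    have hxval : ((x : GL ι F) : Matrix ι ι F) = φ (U * V + 1) := by
      show ((gu : GL ι F) : Matrix ι ι F) * ((gv : GL ι F) : Matrix ι ι F) *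
        (((gu⁻¹ : Cfsg.isometryGroup F (⇑Q)) : GL ι F) : Matrix ι ι F) *
        (((gv⁻¹ : Cfsg.isometryGroup F (⇑Q)) : GL ι F) : Matrix ι ι F) = _
      rw [hu1 gu U hUU hgu, hu1 gv V hVV hgv, hgu, hgv, φmul, φmul, φmul]
      congr 1
      have e : V * U = 1 + U * V := by
        calc V * U = (U * V + V * U) + U * V - (U * V + U * V) := by abel
          _ = 1 + U * V := by rw [two0, hUV, sub_zero]
      calc U * V * U * V = U * (V * U) * V := by simp only [Matrix.mul_assoc]
        _ = U * V + U * U * (V * V) := by rw [e]; noncomm_ring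
        _ = U * V + 1 := by rw [hUU, hVV, Matrix.one_mul]
    obtain ⟨σ, a, hw⟩ := hHW _ (hle hxK)
    rw [hxval, show Ψ * φ (U * V + 1) * Φ = U * V + 1 from hc.conj_unconj _] at hw
    set Z := U * V + 1 with hZ
    -- the image of a basis tensor is not a pure tensor
    let p : Fin t → Fin k := Function.update (fun _ => D.e0) j₀ D.e1
    let zz : Fin k → Fin k → (Fin t → Fin k) := fun r s => Function.update (Function.update (fun _ => D.e0) j₀ s) i₀ r
    have hp : p = zz D.e0 D.e1 := by
      funext l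
      by_cases hl : l = i₀
      · subst hl; simp [p, zz, Function.update_of_ne hij]
      · simp [p, zz, Function.update_of_ne hl]
    have hzi : ∀ r s, zz r s i₀ = r := fun r s => by simp [zz]
    have hzj : ∀ r s, zz r s j₀ = s := fun r s => by simp [zz, Function.update_of_ne hij.symm]
    have col : ∀ z, Z z p = (Z *ᵥ pureVec (fun i => Pi.single (p i) 1)) z := fun z => by
      rw [← single_pure, Matrix.mulVec_single_one]; rfl
    have hZp : ∀ z, Z z p = (if z = zz D.e1 D.e1 then 1 else 0) + (if z = zz D.e0 D.e0 then 1 else 0) +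
        (if z = zz D.e0 D.e1 then 1 else 0) := by
      intro z
      have hN0 : D.N *ᵥ (Pi.single D.e0 1 : Fin k → F) = 0 := by
        funext r; rw [Matrix.mulVec_single_one]; exact D.N_e0 r
      have hN1 : D.N *ᵥ (Pi.single D.e1 1 : Fin k → F) = Pi.single D.e0 1 := by
        funext r; rw [Matrix.mulVec_single_one]; simpa [Pi.single_apply, Matrix.col] using D.N_e1 r
      have hM0 : D.M *ᵥ (Pi.single D.e0 1 : Fin k → F) = Pi.single D.e1 1 := by
        funext r; rw [Matrix.mulVec_single_one]; simpa [Pi.single_apply, Matrix.col] using D.M_e0 r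
      have hNM0 : D.N *ᵥ (D.M *ᵥ (Pi.single D.e0 1 : Fin k → F)) = Pi.single D.e0 1 := by rw [hM0, hN1]
      set xs : Fin t → Fin k → F := fun i => Pi.single (p i) 1 with hxs
      have xi : xs i₀ = Pi.single D.e0 1 := by simp [hxs, p, Function.update_of_ne hij]
      have xj : xs j₀ = Pi.single D.e1 1 := by simp [hxs, p]
      have zero_pure : ∀ (ys : Fin t → Fin k → F), ys i₀ = 0 → pureVec ys = 0 := fun ys h0 => funext fun w =>
        Finset.prod_eq_zero (Finset.mem_univ i₀) (by simp [h0])
      have hexp : Z = facK i₀ D.N + facK i₀ D.M + facK j₀ D.N + facK i₀ D.N * facK i₀ D.M +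
          facK i₀ D.N * facK j₀ D.N := by
        calc Z = (1 + 1) + (facK i₀ D.N + facK i₀ D.M + facK j₀ D.N + facK i₀ D.N * facK i₀ D.M +
            facK i₀ D.N * facK j₀ D.N) := by rw [hZ, hU, hV]; noncomm_ring
          _ = _ := by rw [two0, zero_add]
      have hup : ∀ (l : Fin t) (b : Fin k), Function.update xs l (Pi.single b 1) =
          fun i => Pi.single (Function.update p l b i) (1 : F) := fun l b => by
        funext i
        by_cases h : i = l
        · subst h; simp
        · simp [Function.update_of_ne h, hxs]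
      have q1 : facK i₀ D.N *ᵥ pureVec xs = 0 := by
        rw [facK_pure, xi, hN0]; exact zero_pure _ (Function.update_self ..)
      have q2 : facK i₀ D.M *ᵥ pureVec xs = Pi.single (zz D.e1 D.e1) 1 := by
        rw [facK_pure, xi, hM0, hup, ← single_pure]
      have q3 : facK j₀ D.N *ᵥ pureVec xs = Pi.single (zz D.e0 D.e0) 1 := by
        rw [facK_pure, xj, hN1, hup, ← single_pure]
        congr 1
        funext i
        by_cases h : i = j₀
        · subst h; simp [zz, Function.update_of_ne hij.symm]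
        · by_cases h' : i = i₀
          · subst h'; simp [zz, p, Function.update_of_ne hij]
          · simp [zz, p, Function.update_of_ne h, Function.update_of_ne h']
      have q4 : (facK i₀ D.N * facK i₀ D.M) *ᵥ pureVec xs = Pi.single (zz D.e0 D.e1) 1 := by
        rw [facK_mul, facK_pure, xi, ← Matrix.mulVec_mulVec, hNM0, ← hp, single_pure]
        congr 1
        rw [← hxs, ← xi]
        exact Function.update_eq_self _ _
      have q5 : (facK i₀ D.N * facK j₀ D.N) *ᵥ pureVec xs = 0 := by
        rw [facK_commute hij, ← Matrix.mulVec_mulVec, q1, Matrix.mulVec_zero]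
      rw [col, hexp, Matrix.add_mulVec, Matrix.add_mulVec, Matrix.add_mulVec, Matrix.add_mulVec, q1, q2, q3, q4, q5]
      simp [Pi.add_apply, Pi.single_apply]
    have minor : Z (zz D.e0 D.e0) p * Z (zz D.e1 D.e1) p = Z (zz D.e0 D.e1) p * Z (zz D.e1 D.e0) p := by
      have hform : ∀ z, Z z p = ∏ l, (a l : Matrix (Fin k) (Fin k) F) (z (σ l)) (p l) := fun z => by
        rw [hw, permMat_apply_mul, piKron_apply]; rfl
      simp only [hform]
      have split : ∀ r s, ∏ l, (a l : Matrix (Fin k) (Fin k) F) (zz r s (σ l)) (p l) =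
          (a (σ.symm i₀) : Matrix (Fin k) (Fin k) F) r (p (σ.symm i₀)) *
          ((a (σ.symm j₀) : Matrix (Fin k) (Fin k) F) s (p (σ.symm j₀)) *
          ∏ l ∈ (Finset.univ.erase (σ.symm i₀)).erase (σ.symm j₀),
            (a l : Matrix (Fin k) (Fin k) F) D.e0 (p l)) := by
        intro r s
        have hne : σ.symm j₀ ≠ σ.symm i₀ := fun e => hij (σ.symm.injective e).symm
        rw [← Finset.mul_prod_erase _ _ (Finset.mem_univ (σ.symm i₀)),
          ← Finset.mul_prod_erase _ _ (Finset.mem_erase.mpr ⟨hne, Finset.mem_univ _⟩), Equiv.apply_symm_apply,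
          Equiv.apply_symm_apply, hzi, hzj]
        refine congrArg _ (congrArg _ (Finset.prod_congr rfl fun l hl => ?_))
        simp only [Finset.mem_erase, Finset.mem_univ, and_true] at hl
        have e1 : σ l ≠ i₀ := fun e => hl.2 (by rw [← e, Equiv.symm_apply_apply])
        have e2 : σ l ≠ j₀ := fun e => hl.1 (by rw [← e, Equiv.symm_apply_apply])
        simp [zz, Function.update_of_ne e1, Function.update_of_ne e2]
      rw [split, split, split, split]; ring
    have hne' : ∀ r s r' s', zz r s = zz r' s' ↔ r = r' ∧ s = s' := fun r s r' s' =>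
      ⟨fun e => ⟨by simpa [hzi] using congrFun e i₀, by simpa [hzj] using congrFun e j₀⟩,
        fun e => by rw [e.1, e.2]⟩
    rw [hZp, hZp, hZp, hZp] at minor
    simp [hne', D.ne01, D.ne01.symm] at minor
  · -- a Siegel transformation outside the operator stabiliser
    intro hle
    let a₀ : Fin t → Fin k := fun _ => D.e0
    let a₁ : Fin t → Fin k := Function.update a₀ i₀ D.e1
    set u : ι → F := Φ *ᵥ Pi.single a₀ 1 with hu
    set z : ι → F := Φ *ᵥ Pi.single a₁ 1 with hz
    have hQu : Q u = 0 := by rw [hu, single_pure]; exact hpure _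
    have hQz : Q z = 0 := by rw [hz, single_pure]; exact hpure _
    have huz : QuadraticMap.polar (⇑Q) u z = 0 := by
      rw [hu, hz, hpol, single_one_dotProduct, Matrix.mulVec_single_one]
      show c * gramK t G a₀ a₁ = 0
      rw [gramK_single_pair, Finset.prod_eq_zero (Finset.mem_univ j₀)
        (by simp [a₀, a₁, Function.update_of_ne hij.symm, D.diag]), mul_zero]
    set gs := Cfsg.Lib.Classical.Refl.siegelG Q hQu huz with hgs
    have hgΩ : (gs : GL ι F) ∈ Cfsg.Geo.omegaGL (⇑Q) :=
      ⟨gs, Cfsg.Lib.Classical.Refl.siegelG_mem_omega Q hQn (by omega) hQu huz, rfl⟩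
    have hgS := (hle hgΩ).1
    set g : Matrix ι ι F := ((gs : GL ι F) : Matrix ι ι F) with hg
    have hgx : ∀ x, g *ᵥ x = Cfsg.Lib.Classical.Refl.siegelMap Q u z x := fun x =>
      Cfsg.Lib.Classical.Refl.mat_siegelG Q hQu huz x
    set N0 : Matrix ι ι F := vecMulVec z (fun i => QuadraticMap.polar (⇑Q) u (Pi.single i 1)) +
      vecMulVec u (fun i => -QuadraticMap.polar (⇑Q) z (Pi.single i 1)) with hN0
    have hgN : g = 1 + N0 := by
      refine Matrix.ext fun r i => ?_
      have h := congrFun (hgx (Pi.single i 1)) r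
      rw [Matrix.mulVec_single_one] at h
      simp only [Matrix.col, Matrix.transpose_apply] at h
      rw [h]
      simp [hN0, Cfsg.Lib.Classical.Refl.siegelMap, hQz, Matrix.one_apply, Pi.single_apply, vecMulVec_apply, eq_comm]
      ring
    have hcm : ∀ X ∈ opSpace D t, g * φ X = φ X * g := by
      intro X hX
      obtain ⟨Y, hY, eY⟩ := hgS.1 X hX
      by_contra hne
      have hne' : Y - X ≠ 0 := fun e => hne (by rw [← sub_eq_zero.mp e]; rw [sub_eq_zero.mp e] at eY; rw [sub_eq_zero.mp e]; exact eY)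
      set Dm := Y - X with hDm
      have hDmem : Dm ∈ opSpace D t := sub_mem hY hX
      have hrk : (φ Dm).rank ≤ 4 := by
        have e1 : φ Dm * g = N0 * φ X - φ X * N0 := by
          have : φ Dm = φ Y - φ X := by simp only [φ, hDm, Matrix.mul_sub, Matrix.sub_mul]
          rw [this, Matrix.sub_mul, ← eY, ← hg, hgN]; noncomm_ring
        have e2 : φ Dm = (N0 * φ X - φ X * N0) * (((gs : GL ι F)⁻¹ : GL ι F) : Matrix ι ι F) := by
          rw [← e1, Matrix.mul_assoc, hg, Units.mul_inv, Matrix.mul_one]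
        rw [e2]
        refine le_trans (Matrix.rank_mul_le_left _ _) ?_
        rw [sub_eq_add_neg]
        refine le_trans (rank_add_two _ _) ?_
        have h1 : (N0 * φ X).rank ≤ 2 := le_trans (Matrix.rank_mul_le_left _ _) (rank_vecMulVec_add _ _ _ _)
        have h2' : (-(φ X * N0)).rank ≤ 2 := by
          rw [← Matrix.mul_neg]
          refine le_trans (Matrix.rank_mul_le_right _ _) ?_
          rw [show -N0 = vecMulVec (-z) (fun i => QuadraticMap.polar (⇑Q) u (Pi.single i 1)) +
            vecMulVec (-u) (fun i => -QuadraticMap.polar (⇑Q) z (Pi.single i 1)) by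
              rw [hN0, neg_add, Matrix.neg_vecMulVec, Matrix.neg_vecMulVec]]
          exact rank_vecMulVec_add _ _ _ _
        omega
      obtain ⟨d, hd⟩ := opSpace_sq D h2 hDmem
      have hφs : ∀ e : F, φ (e • 1) = e • (1 : Matrix ι ι F) := fun e => by
        simp only [φ, Matrix.mul_smul, Matrix.smul_mul, Matrix.mul_one, hc.left]
      by_cases hd0 : d = 0
      · by_cases hall : ∀ i : Fin t, ∀ A ∈ D.C, Dm * facK i A = facK i A * Dm
        · obtain ⟨e, he⟩ := commutant_scalar D hall
          apply hne'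
          rw [he]
          have : (e * e) • (1 : Matrix (Fin t → Fin k) (Fin t → Fin k) F) = 0 := by
            rw [← zero_smul F (1 : Matrix (Fin t → Fin k) (Fin t → Fin k) F), ← hd0, ← hd, he, Matrix.smul_mul,
              Matrix.mul_smul, Matrix.one_mul, smul_smul]
          have h00 := congrFun (congrFun this (fun _ => D.e0)) (fun _ => D.e0)
          simp at h00
          rw [show e = 0 from h00, zero_smul]
        · push Not at hall
          obtain ⟨i, A, hA, hAne⟩ := hall
          obtain ⟨b, hb⟩ := anticomm_gen D h2 hDmem i hA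
          have hb0 : b ≠ 0 := fun e => hAne (by
            rw [e, zero_smul] at hb
            calc Dm * facK i A = (Dm * facK i A + facK i A * Dm) - facK i A * Dm := by abel
              _ = -(facK i A * Dm) := by rw [hb, zero_sub]
              _ = facK i A * Dm := by
                have h0 : facK i A * Dm + facK i A * Dm = 0 := by rw [← two_smul F, h2, zero_smul]
                exact neg_eq_of_add_eq_zero_left h0)
          have : (b • (1 : Matrix ι ι F)).rank ≤ 8 := by
            rw [← hφs, ← hb, show φ (Dm * facK i A + facK i A * Dm) = φ Dm * φ (facK i A) + φ (facK i A) * φ Dm by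
              rw [φmul, φmul]; simp only [φ, Matrix.mul_add, Matrix.add_mul]]
            refine le_trans (rank_add_two _ _) ?_
            have h1 := Matrix.rank_mul_le_left (φ Dm) (φ (facK i A))
            have h3 := Matrix.rank_mul_le_right (φ (facK i A)) (φ Dm)
            omega
          rw [rank_smul_one hb0] at this
          omega
      · have : (d • (1 : Matrix ι ι F)).rank ≤ 4 := by
          rw [← hφs, ← hd, ← φmul]
          exact le_trans (Matrix.rank_mul_le_left _ _) hrk
        rw [rank_smul_one hd0] at this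
        omega
    obtain ⟨e, he⟩ := commutant_scalar D (X := Ψ * g * Φ) fun i A hA => by
      have h := congrArg (fun Z => Ψ * Z * Φ) (hcm _ (facK_mem_opSpace D i hA))
      simp only [← hc.conj_mul] at h
      rwa [show Ψ * φ (facK i A) * Φ = facK i A from hc.conj_unconj _] at h
    have hgs : g = e • 1 := by
      rw [← hc.unconj_conj g, he, Matrix.mul_smul, Matrix.mul_one, Matrix.smul_mul, hc.left]
    have hN : N0 = (e - 1) • 1 := by
      rw [sub_smul, one_smul, ← hgs, hgN, add_sub_cancel_left]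
    have he1 : e - 1 = 0 := by
      by_contra h
      have := rank_vecMulVec_add z (fun i => QuadraticMap.polar (⇑Q) u (Pi.single i 1)) u
        (fun i => -QuadraticMap.polar (⇑Q) z (Pi.single i 1))
      rw [← hN0, hN, rank_smul_one h] at this
      omega
    have hfix : ∀ x, Cfsg.Lib.Classical.Refl.siegelMap Q u z x = x := fun x => by
      rw [← hgx, hgs, sub_eq_zero.mp he1, one_smul, Matrix.one_mulVec]
    have hu0 : u ≠ 0 := fun e => by
      have h := congrArg (fun v => (Ψ *ᵥ v) a₀) e
      simp only [hu, Matrix.mulVec_mulVec, hc.right, Matrix.one_mulVec, Matrix.mulVec_zero, Pi.zero_apply,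
        Pi.single_eq_same] at h
      exact one_ne_zero h
    obtain ⟨x, hx⟩ : ∃ x, QuadraticMap.polar (⇑Q) u x ≠ 0 := by
      by_contra hcon
      push Not at hcon
      exact hu0 (hQn.1 u hcon)
    have h := congrArg (fun v => (Ψ *ᵥ v) a₁) (hfix x)
    have ha01 : a₁ ≠ a₀ := fun e => D.ne01 (by simpa [a₀, a₁] using (congrFun e i₀).symm)
    simp only [Cfsg.Lib.Classical.Refl.siegelMap, Matrix.mulVec_add, Matrix.mulVec_smul, hu, hz, Matrix.mulVec_mulVec,
      hc.right, Matrix.one_mulVec, Pi.add_apply, Pi.smul_apply, Pi.single_eq_same, Pi.single_eq_of_ne ha01,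
      smul_eq_mul, mul_one, mul_zero, add_zero, add_eq_left] at h
    exact hx (by rw [hu]; exact h)

end Cfsg.Lib.Classical.SpinOver
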