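import Cfsg.Agent.Classical.SpinOvergroup.Local
import Cfsg.Agent.Classical.Aschbacher.FormWreath

/-!
The space of operators on a tensor power spanned by the single-factor operators: squares are scalar and only
scalars commute with all of it.
-/

set_option autoImplicit false
set_option linter.unusedSimpArgs false
set_option linter.unusedSectionVars false
set_option linter.style.haveILetI false

namespace Cfsg.Lib.Classical.SpinOver

open Matrix
open Cfsg.Lib.Classical.Aschbacher

universe u

variable {F : Type u} [Field F] {k t : ℕ}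

/-- An operator in a single factor. -/
abbrev facK (i : Fin t) (A : Matrix (Fin k) (Fin k) F) : Matrix (Fin t → Fin k) (Fin t → Fin k) F :=
  fac (d := fun _ => k) i A

theorem facK_apply (i : Fin t) (A : Matrix (Fin k) (Fin k) F) (x y : Fin t → Fin k) :
    facK i A x y = A (x i) (y i) * ∏ j ∈ Finset.univ.erase i, (1 : Matrix (Fin k) (Fin k) F) (x j) (y j) := by
  rw [facK, fac, piKron_apply, ← Finset.mul_prod_erase _ _ (Finset.mem_univ i), Pi.mulSingle_eq_same]
  exact congrArg _ (Finset.prod_congr rfl fun j hj => by rw [Pi.mulSingle_eq_of_ne (Finset.ne_of_mem_erase hj)])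

theorem facK_add (i : Fin t) (A B : Matrix (Fin k) (Fin k) F) : facK i (A + B) = facK i A + facK i B := by
  ext x y; simp only [Matrix.add_apply, facK_apply]; ring

theorem facK_smul (i : Fin t) (c : F) (A : Matrix (Fin k) (Fin k) F) : facK i (c • A) = c • facK i A := by
  ext x y; simp only [Matrix.smul_apply, smul_eq_mul, facK_apply]; ring

theorem facK_one (i : Fin t) : facK i (1 : Matrix (Fin k) (Fin k) F) = 1 := by
  rw [facK, fac, ← piKron_one (F := F) (fun _ : Fin t => k)]
  congr 1
  exact Pi.mulSingle_one i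

theorem facK_mul (i : Fin t) (A B : Matrix (Fin k) (Fin k) F) : facK i A * facK i B = facK i (A * B) := by
  rw [facK, facK, facK, fac, fac, fac, piKron_mul, ← Pi.mulSingle_mul]

theorem facK_zero (i : Fin t) : facK i (0 : Matrix (Fin k) (Fin k) F) = 0 := by
  rw [← zero_smul F (1 : Matrix (Fin k) (Fin k) F), facK_smul, zero_smul]

theorem facK_commute {i j : Fin t} (h : i ≠ j) (A B : Matrix (Fin k) (Fin k) F) :
    facK i A * facK j B = facK j B * facK i A := by
  rw [facK, facK, fac, fac, piKron_mul, piKron_mul]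
  exact congrArg _ ((Pi.mulSingle_commute (f := fun _ : Fin t => Matrix (Fin k) (Fin k) F) h A B).eq)

theorem facK_single (i : Fin t) (A : Matrix (Fin k) (Fin k) F) (p z : Fin t → Fin k) :
    facK i A z p = if ∀ j, j ≠ i → z j = p j then A (z i) (p i) else 0 := by
  rw [facK_apply]
  split_ifs with h
  · rw [Finset.prod_eq_one (fun j hj => by rw [h j (Finset.ne_of_mem_erase hj), Matrix.one_apply_eq]), mul_one]
  · push Not at h
    obtain ⟨j, hj, hne⟩ := h
    rw [Finset.prod_eq_zero (f := fun l => (1 : Matrix (Fin k) (Fin k) F) (z l) (p l))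
      (Finset.mem_erase.mpr ⟨hj, Finset.mem_univ j⟩) (Matrix.one_apply_ne hne), mul_zero]

/-- The Gram matrix of the tensor power. -/
abbrev gramK (t : ℕ) (G : Matrix (Fin k) (Fin k) F) : Matrix (Fin t → Fin k) (Fin t → Fin k) F :=
  piKron (d := fun _ => k) fun _ => G

variable {G : Matrix (Fin k) (Fin k) F} (D : FactorData k G)

/-- The space spanned by the identity and the single-factor operators. -/
def opSpace (t : ℕ) : Submodule F (Matrix (Fin t → Fin k) (Fin t → Fin k) F) :=
  Submodule.span F (insert 1 {X | ∃ i : Fin t, ∃ A ∈ D.C, X = facK i A})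

theorem one_mem_opSpace : (1 : Matrix (Fin t → Fin k) (Fin t → Fin k) F) ∈ opSpace D t :=
  Submodule.subset_span (Set.mem_insert _ _)

theorem facK_mem_opSpace (i : Fin t) {A : Matrix (Fin k) (Fin k) F} (hA : A ∈ D.C) : facK i A ∈ opSpace D t :=
  Submodule.subset_span (Set.mem_insert_of_mem _ ⟨i, A, hA, rfl⟩)

theorem opSpace_adj {X : Matrix (Fin t → Fin k) (Fin t → Fin k) F} (hX : X ∈ opSpace D t) :
    Xᵀ * gramK t G = gramK t G * X := by
  induction hX using Submodule.span_induction with
  | mem X hX =>
    rcases hX with rfl | ⟨i, A, hA, rfl⟩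
    · rw [transpose_one, Matrix.one_mul, Matrix.mul_one]
    · rw [facK, fac, piKron_transpose, gramK, piKron_mul, piKron_mul]
      congr 1
      funext j
      rw [Pi.mul_apply, Pi.mul_apply]
      by_cases h : j = i
      · subst h; rw [Pi.mulSingle_eq_same]; exact D.adj A hA
      · rw [Pi.mulSingle_eq_of_ne h, transpose_one, Matrix.one_mul, Matrix.mul_one]
  | zero => simp
  | add X Y _ _ hX hY => rw [transpose_add, Matrix.add_mul, hX, hY, Matrix.mul_add]
  | smul c X _ hX => rw [transpose_smul, Matrix.smul_mul, hX, Matrix.mul_smul]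

theorem anticomm_facK (h2 : (2 : F) = 0) (i j : Fin t) {A B : Matrix (Fin k) (Fin k) F} (hA : A ∈ D.C) (hB : B ∈ D.C) :
    ∃ c : F, facK i A * facK j B + facK j B * facK i A = c • (1 : Matrix (Fin t → Fin k) (Fin t → Fin k) F) := by
  by_cases h : i = j
  · subst h
    obtain ⟨a, ha⟩ := D.sq A hA
    obtain ⟨b, hb⟩ := D.sq B hB
    obtain ⟨c, hc⟩ := D.sq (A + B) (add_mem hA hB)
    refine ⟨c - a - b, ?_⟩
    have e : A * B + B * A = (c - a - b) • (1 : Matrix (Fin k) (Fin k) F) := by
      rw [sub_smul, sub_smul, ← hc, ← ha, ← hb]; noncomm_ring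
    rw [facK_mul, facK_mul, ← facK_add, e, facK_smul, facK_one]
  · refine ⟨0, ?_⟩
    rw [facK_commute h, ← two_smul F, h2, zero_smul, zero_smul]

theorem anticomm_gen (h2 : (2 : F) = 0) {X : Matrix (Fin t → Fin k) (Fin t → Fin k) F} (hX : X ∈ opSpace D t)
    (j : Fin t) {B : Matrix (Fin k) (Fin k) F} (hB : B ∈ D.C) :
    ∃ c : F, X * facK j B + facK j B * X = c • (1 : Matrix (Fin t → Fin k) (Fin t → Fin k) F) := by
  induction hX using Submodule.span_induction with
  | mem X hX =>
    rcases hX with rfl | ⟨i, A, hA, rfl⟩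
    · exact ⟨0, by rw [Matrix.one_mul, Matrix.mul_one, ← two_smul F, h2, zero_smul, zero_smul]⟩
    · exact anticomm_facK D h2 i j hA hB
  | zero => exact ⟨0, by simp⟩
  | add X Y _ _ hX hY =>
    obtain ⟨a, ha⟩ := hX
    obtain ⟨b, hb⟩ := hY
    exact ⟨a + b, by rw [add_smul, ← ha, ← hb]; noncomm_ring⟩
  | smul c X _ hX =>
    obtain ⟨a, ha⟩ := hX
    exact ⟨c * a, by rw [← smul_smul, ← ha, smul_add, Matrix.smul_mul, Matrix.mul_smul]⟩

theorem anticomm (h2 : (2 : F) = 0) {X Y : Matrix (Fin t → Fin k) (Fin t → Fin k) F} (hX : X ∈ opSpace D t)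
    (hY : Y ∈ opSpace D t) : ∃ c : F, X * Y + Y * X = c • (1 : Matrix (Fin t → Fin k) (Fin t → Fin k) F) := by
  induction hY using Submodule.span_induction with
  | mem Y hY =>
    rcases hY with rfl | ⟨i, A, hA, rfl⟩
    · exact ⟨0, by rw [Matrix.one_mul, Matrix.mul_one, ← two_smul F, h2, zero_smul, zero_smul]⟩
    · exact anticomm_gen D h2 hX i hA
  | zero => exact ⟨0, by simp⟩
  | add Y Z _ _ hY hZ =>
    obtain ⟨a, ha⟩ := hY
    obtain ⟨b, hb⟩ := hZ
    exact ⟨a + b, by rw [add_smul, ← ha, ← hb]; noncomm_ring⟩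
  | smul c Y _ hY =>
    obtain ⟨a, ha⟩ := hY
    exact ⟨c * a, by rw [← smul_smul, ← ha, smul_add, Matrix.smul_mul, Matrix.mul_smul]⟩

theorem opSpace_sq (h2 : (2 : F) = 0) {X : Matrix (Fin t → Fin k) (Fin t → Fin k) F} (hX : X ∈ opSpace D t) :
    ∃ c : F, X * X = c • (1 : Matrix (Fin t → Fin k) (Fin t → Fin k) F) := by
  induction hX using Submodule.span_induction with
  | mem X hX =>
    rcases hX with rfl | ⟨i, A, hA, rfl⟩
    · exact ⟨1, by rw [Matrix.one_mul, one_smul]⟩
    · obtain ⟨a, ha⟩ := D.sq A hA
      exact ⟨a, by rw [facK_mul, ha, facK_smul, facK_one]⟩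
  | zero => exact ⟨0, by simp⟩
  | add X Y hX' hY' hX hY =>
    obtain ⟨a, ha⟩ := hX
    obtain ⟨b, hb⟩ := hY
    obtain ⟨c, hc⟩ := anticomm D h2 hX' hY'
    exact ⟨a + b + c, by rw [add_smul, add_smul, ← ha, ← hb, ← hc]; noncomm_ring⟩
  | smul c X _ hX =>
    obtain ⟨a, ha⟩ := hX
    exact ⟨c * c * a, by rw [Matrix.smul_mul, Matrix.mul_smul, ha, smul_smul, smul_smul]⟩

theorem commutant_scalar [Nonempty (Fin k)] {X : Matrix (Fin t → Fin k) (Fin t → Fin k) F}
    (hX : ∀ i : Fin t, ∀ A ∈ D.C, X * facK i A = facK i A * X) :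
    ∃ c : F, X = c • (1 : Matrix (Fin t → Fin k) (Fin t → Fin k) F) := by
  classical
  have hsl : ∀ (i : Fin t) (u v : Fin t → Fin k), ∃ c : F, ∀ a b : Fin k,
      X (Function.update u i a) (Function.update v i b) = c * (1 : Matrix (Fin k) (Fin k) F) a b := by
    intro i u v
    obtain ⟨c, hc⟩ := D.comm (Matrix.of fun a b => X (Function.update u i a) (Function.update v i b)) fun A hA => by
      ext a b
      have h := congrFun (congrFun (hX i A hA) (Function.update u i a)) (Function.update v i b)
      have el : ∀ (w : Fin t → Fin k) (g : (Fin t → Fin k) → F) (f : Fin k → Fin k → F) (r : Fin k),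
          ∑ z, g z * (if ∀ j, j ≠ i → z j = Function.update w i r j then f (z i) r else 0) =
            ∑ s, g (Function.update w i s) * f s r := by
        intro w g f r
        rw [← Finset.sum_subset (Finset.subset_univ (Finset.univ.image fun s => Function.update w i s)),
          Finset.sum_image fun s _ s' _ e => by simpa using congrFun e i]
        · refine Finset.sum_congr rfl fun s _ => ?_
          rw [if_pos fun j hj => by simp [hj], Function.update_self]
        · intro z _ hz
          rw [if_neg fun hall => hz ?_, mul_zero]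
          refine Finset.mem_image.mpr ⟨z i, Finset.mem_univ _, funext fun j => ?_⟩
          by_cases hj : j = i
          · subst hj; simp
          · simp [hj, hall j hj]
      rw [Matrix.mul_apply, Matrix.mul_apply] at h
      simp only [facK_single, Function.update_self] at h
      rw [el v (fun z => X (Function.update u i a) z) A b] at h
      have er : ∑ z, (if ∀ j, j ≠ i → Function.update u i a j = z j then A (Function.update u i a i) (z i) else 0) *
          X z (Function.update v i b) = ∑ s, A a s * X (Function.update u i s) (Function.update v i b) := by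
        have := el u (fun z => X z (Function.update v i b)) (fun s r => A r s) a
        simp only [eq_comm (a := Function.update u i a _)]
        simp only [Function.update_self, mul_comm _ (X _ _)] at this ⊢
        exact this
      simp only [Function.update_self] at er
      rw [er] at h
      simpa [Matrix.mul_apply] using h
    exact ⟨c, fun a b => by simpa using congrFun (congrFun hc a) b⟩
  have hoff : ∀ x y : Fin t → Fin k, x ≠ y → X x y = 0 := by
    intro x y hxy
    obtain ⟨i, hi⟩ := Function.ne_iff.mp hxy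
    obtain ⟨c, hc⟩ := hsl i x y
    have := hc (x i) (y i)
    rwa [Function.update_eq_self, Function.update_eq_self, Matrix.one_apply_ne hi, mul_zero] at this
  have hstep : ∀ (i : Fin t) (x : Fin t → Fin k) (a : Fin k),
      X (Function.update x i a) (Function.update x i a) = X x x := by
    intro i x a
    obtain ⟨c, hc⟩ := hsl i x x
    have h1 := hc a a
    have h2 := hc (x i) (x i)
    rw [Matrix.one_apply_eq, mul_one] at h1 h2
    rw [Function.update_eq_self] at h2
    rw [h1, h2]
  let x₀ : Fin t → Fin k := fun _ => Classical.arbitrary (Fin k)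
  have hall : ∀ (s : Finset (Fin t)) (x : Fin t → Fin k), (∀ j ∉ s, x j = x₀ j) → X x x = X x₀ x₀ := by
    intro s
    induction s using Finset.induction with
    | empty => intro x hx; rw [funext fun j => hx j (Finset.notMem_empty j)]
    | insert i s his ih =>
      intro x hx
      rw [← hstep i x (x₀ i)]
      refine ih _ fun j hj => ?_
      by_cases h : j = i
      · subst h; simp
      · rw [Function.update_of_ne h]; exact hx j (by simp [h, hj])
  refine ⟨X x₀ x₀, Matrix.ext fun x y => ?_⟩
  by_cases h : x = y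
  · subst h
    rw [Matrix.smul_apply, Matrix.one_apply_eq, smul_eq_mul, mul_one]
    exact hall Finset.univ x fun j hj => absurd (Finset.mem_univ j) hj
  · rw [hoff x y h, Matrix.smul_apply, Matrix.one_apply_ne h, smul_zero]

/-- A factor permutation times a tensor product of similitudes moves the space into itself. -/
theorem opSpace_conj {σ : Equiv.Perm (Fin t)} {a : Fin t → GL (Fin k) F}
    (hsim : ∀ i, ∃ c : F, c ≠ 0 ∧
      (a i : Matrix (Fin k) (Fin k) F)ᵀ * G * (a i : Matrix (Fin k) (Fin k) F) = c • G)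
    {X : Matrix (Fin t → Fin k) (Fin t → Fin k) F} (hX : X ∈ opSpace D t) :
    ∃ Y ∈ opSpace D t, (permMat F σ * piKron (d := fun _ => k) fun i => (a i : Matrix (Fin k) (Fin k) F)) * X =
      Y * (permMat F σ * piKron (d := fun _ => k) fun i => (a i : Matrix (Fin k) (Fin k) F)) := by
  induction hX using Submodule.span_induction with
  | mem X hX =>
    rcases hX with rfl | ⟨i, A, hA, rfl⟩
    · exact ⟨1, one_mem_opSpace D, by rw [Matrix.one_mul, Matrix.mul_one]⟩
    · obtain ⟨c, hc, hs⟩ := hsim i
      refine ⟨facK (σ i) ((a i : Matrix (Fin k) (Fin k) F) * A * (((a i)⁻¹ : GL (Fin k) F) : Matrix (Fin k) (Fin k) F)),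
        facK_mem_opSpace D _ (D.inv (a i) c hc hs A hA), ?_⟩
      rw [← Matrix.mul_assoc, facK, facK, ← permMat_fac, Matrix.mul_assoc, Matrix.mul_assoc]
      congr 1
      rw [fac, fac, piKron_mul, piKron_mul]
      congr 1
      funext j
      rw [Pi.mul_apply, Pi.mul_apply]
      by_cases h : j = i
      · subst h
        rw [Pi.mulSingle_eq_same, Pi.mulSingle_eq_same, Matrix.mul_assoc, Units.inv_mul, Matrix.mul_one]
      · rw [Pi.mulSingle_eq_of_ne h, Pi.mulSingle_eq_of_ne h, Matrix.mul_one, Matrix.one_mul]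
  | zero => exact ⟨0, zero_mem _, by simp⟩
  | add X Y _ _ hX hY =>
    obtain ⟨X', hX', eX⟩ := hX
    obtain ⟨Y', hY', eY⟩ := hY
    exact ⟨X' + Y', add_mem hX' hY', by rw [Matrix.mul_add, eX, eY, Matrix.add_mul]⟩
  | smul c X _ hX =>
    obtain ⟨X', hX', eX⟩ := hX
    exact ⟨c • X', Submodule.smul_mem _ c hX', by rw [Matrix.mul_smul, eX, Matrix.smul_mul]⟩

end Cfsg.Lib.Classical.SpinOver
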